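import Groth.Agent.Lib.Helper22.QcEt.Str
import Groth.Agent.Helper19.PullUnit
import Groth.Agent.Lib.Helper29.UnitIso
import Groth.Prelude.Def_EtAssoc2

/-!
# The étale sheaf associated to a quasi-coherent module is quasi-coherent (helper22)
-/

set_option autoImplicit false
set_option linter.unusedSectionVars false
set_option linter.style.haveILetI false
universe u
open CategoryTheory CategoryTheory.Limits Opposite AlgebraicGeometry TensorProduct

namespace Groth.Agent.Lib.Helper22.QcEt
open Groth.Agent.Lib.Helper22.CechU Groth.Agent.Lib.Helper22.CechU.Site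
open Groth.Agent.Lib.Helper22.CechU.Etale Groth.Agent.Lib.Helper22.EtLoc
open Groth.Agent.Lib.Helper22.GaAcyc
open Groth.Agent.Lib.Helper29.QCoh

noncomputable section

variable {S : Scheme.{u}} (F : S.Modules)

instance instModuleObj (V : S.Etale) : Module Γ(V.left, ⊤) (EtAssoc.obj F V) :=
  inferInstanceAs (Module Γ(V.left, ⊤) Γ((Scheme.Modules.pullback V.hom).obj F, ⊤))

section Semilinear

variable {V W : S.Etale} (g : V ⟶ W)

lemma step1_eq (x : EtAssoc.obj F W) :
    EtAssoc.step1 F g x =
      res ((Scheme.Modules.pullback g.left).obj ((Scheme.Modules.pullback W.hom).obj F))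
        (le_top : (⊤ : V.left.Opens) ≤ g.left ⁻¹ᵁ ⊤)
        (pullSect g.left ((Scheme.Modules.pullback W.hom).obj F) ⊤ x) := rfl

lemma appTop_eq_map_app (a : Γ(W.left, ⊤)) :
    (V.left.presheaf.map (homOfLE (le_top : (⊤ : V.left.Opens) ≤ g.left ⁻¹ᵁ ⊤)).op)
        ((g.left.app ⊤).hom a) = g.left.appTop.hom a := by
  have : (homOfLE (le_top : (⊤ : V.left.Opens) ≤ g.left ⁻¹ᵁ ⊤)) = 𝟙 _ := Subsingleton.elim _ _
  rw [this, op_id, V.left.presheaf.map_id]
  rfl

lemma step1_smul (a : Γ(W.left, ⊤)) (x : EtAssoc.obj F W) :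
    EtAssoc.step1 F g (a • x) = g.left.appTop.hom a • EtAssoc.step1 F g x := by
  have h1 : pullSect g.left ((Scheme.Modules.pullback W.hom).obj F) ⊤ (a • x) =
      (g.left.app ⊤).hom a • pullSect g.left ((Scheme.Modules.pullback W.hom).obj F) ⊤ x :=
    pullSect_smul g.left ((Scheme.Modules.pullback W.hom).obj F) ⊤ a x
  refine (congrArg (res ((Scheme.Modules.pullback g.left).obj
    ((Scheme.Modules.pullback W.hom).obj F)) (le_top : (⊤ : V.left.Opens) ≤ g.left ⁻¹ᵁ ⊤))
    h1).trans ?_
  refine (res_smul ((Scheme.Modules.pullback g.left).obj ((Scheme.Modules.pullback W.hom).obj F))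
    (le_top : (⊤ : V.left.Opens) ≤ g.left ⁻¹ᵁ ⊤) ((g.left.app ⊤).hom a)
    (pullSect g.left ((Scheme.Modules.pullback W.hom).obj F) ⊤ x)).trans ?_
  rw [appTop_eq_map_app]
  rfl

lemma step2_smul (a : Γ(V.left, ⊤))
    (y : Γ((Scheme.Modules.pullback g.left).obj ((Scheme.Modules.pullback W.hom).obj F), ⊤)) :
    EtAssoc.step2 F g (a • y) = a • EtAssoc.step2 F g y :=
  Scheme.Modules.Hom.app_smul (EtAssoc.step2a F g) a y

lemma resMap_smul (a : Γ(W.left, ⊤)) (x : EtAssoc.obj F W) :
    EtAssoc.resMap F g (a • x) = g.left.appTop.hom a • EtAssoc.resMap F g x := by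
  unfold EtAssoc.resMap
  rw [ConcreteCategory.comp_apply, ConcreteCategory.comp_apply, step1_smul, step2_smul]

end Semilinear

section KL

variable [F.IsQuasicoherent] {U : S.Etale} (V : Over U)

/-- Sections of the pullback of `F` to an étale `S`-scheme (the type underlying `EtAssoc.obj`). -/
abbrev ΓF (W : S.Etale) : Type u := Γ((Scheme.Modules.pullback W.hom).obj F, ⊤)

/-- The restriction map of `EtAssoc`, as an additive map between modules of sections. -/
def rm : ΓF F U →+ ΓF F V.left := (EtAssoc.resMap F V.hom).hom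

lemma rm_apply (x : ΓF F U) : rm F V x = EtAssoc.resMap F V.hom x := rfl

lemma rm_smul (a : Γ(U.left, ⊤)) (x : ΓF F U) :
    rm F V (a • x) = V.hom.left.appTop.hom a • rm F V x :=
  resMap_smul F V.hom a x

/-- The base change map on the module side, for a general algebra structure. -/
def βgen (φ : Γ(U.left, ⊤) ⟶ Γ(V.left.left, ⊤))
    (hbal : ∀ r, φ.hom r = V.hom.left.appTop.hom r) :
    letI := φ.hom.toAlgebra
    Γ(V.left.left, ⊤) ⊗[Γ(U.left, ⊤)] (ΓF F U) →+ ΓF F V.left :=
  letI := φ.hom.toAlgebra
  TensorProduct.liftAddHom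
    { toFun := fun a =>
        { toFun := fun x => a • rm F V x
          map_zero' := by rw [map_zero, smul_zero]
          map_add' := fun x x' => by rw [map_add, smul_add] }
      map_zero' := by
        ext x
        exact zero_smul _ _
      map_add' := fun a a' => by
        ext x
        exact add_smul _ _ _ }
    (fun r a x => by
      change (r • a) • rm F V x = a • rm F V (r • x)
      rw [rm_smul, Algebra.smul_def, mul_comm, mul_smul]
      congr 2
      exact hbal r)

lemma βgen_tmul (φ : Γ(U.left, ⊤) ⟶ Γ(V.left.left, ⊤))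
    (hbal : ∀ r, φ.hom r = V.hom.left.appTop.hom r) (a : Γ(V.left.left, ⊤))
    (x : ΓF F U) :
    letI := φ.hom.toAlgebra
    βgen F V φ hbal (a ⊗ₜ x) = a • rm F V x := rfl

set_option maxRecDepth 8000 in
lemma βgen_bijective (hU : IsAffine U.left) (hV : IsAffine V.left.left)
    (φ : Γ(U.left, ⊤) ⟶ Γ(V.left.left, ⊤))
    (hbal : ∀ r, φ.hom r = V.hom.left.appTop.hom r)
    (hφ : φ = V.hom.left.appLE ⊤ ⊤ le_top) :
    Function.Bijective (βgen F V φ hbal) := by
  subst hφ
  letI := (V.hom.left.appLE ⊤ ⊤ le_top).hom.toAlgebra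
  have hU' : IsAffineOpen (⊤ : U.left.Opens) := isAffineOpen_top U.left
  have hV' : IsAffineOpen (⊤ : V.left.left.Opens) := isAffineOpen_top V.left.left
  let M₀ := (Scheme.Modules.pullback U.hom).obj F
  let E := pullbackSectionsEquiv V.hom.left M₀ hV' hU' le_top
  -- the two steps of the restriction map
  let s1 : ΓF F U →+ Γ((Scheme.Modules.pullback V.hom.left).obj M₀, ⊤) :=
    (EtAssoc.step1 F V.hom).hom
  let s2 : Γ((Scheme.Modules.pullback V.hom.left).obj M₀, ⊤) →+ ΓF F V.left :=
    (EtAssoc.step2 F V.hom).hom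
  have hrm : ∀ x, rm F V x = s2 (s1 x) := fun x => rfl
  have hs2 : ∀ (a : Γ(V.left.left, ⊤)) y, s2 (a • y) = a • s2 y := fun a y =>
    step2_smul F V.hom a y
  have hE : ∀ x : ΓF F U, E.symm ((1 : Γ(V.left.left, ⊤)) ⊗ₜ x) = s1 x := by
    intro x
    rw [LinearEquiv.symm_apply_eq]
    exact (Groth.Agent.Helper19.PullUnit.pullbackSectionsEquiv_pullSect V.hom.left M₀ hV' hU'
      le_top x).symm
  have hiso : IsIso (EtAssoc.step2a F V.hom) := by
    unfold EtAssoc.step2a
    infer_instance
  have hstep2 : Function.Bijective s2 :=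
    app_bijective_of_isIso (EtAssoc.step2a F V.hom) ⊤
  have key : ∀ t, βgen F V _ hbal t = s2 (E.symm t) := by
    intro t
    induction t using TensorProduct.induction_on with
    | zero => rw [map_zero, map_zero, map_zero]
    | add x y hx hy => rw [map_add, map_add, map_add, hx, hy]
    | tmul a x =>
      have h1 : a ⊗ₜ[Γ(U.left, ⊤)] x = a • ((1 : Γ(V.left.left, ⊤)) ⊗ₜ[Γ(U.left, ⊤)] x) := by
        rw [TensorProduct.smul_tmul', smul_eq_mul, mul_one]
      rw [βgen_tmul, h1, map_smul, hE, hs2, hrm]
  have : (βgen F V _ hbal : _ → _) = s2 ∘ E.symm := funext key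
  rw [this]
  exact hstep2.comp E.symm.bijective

end KL

section FromAssoc

variable {F} (G : EtCoh.Ab S)
  (e : ∀ U : S.Etale, (G.obj.obj (op U) : Type (u + 1)) ≃+ ULift.{u + 1} (EtAssoc.obj F U))
  (he : ∀ (U U' : S.Etale) (g : U' ⟶ U) (s : G.obj.obj (op U)),
      (e U' (G.obj.map g.op s)).down = EtAssoc.resMap F g (e U s).down)

/-- The module structure transported along `e`. -/
abbrev modOfAssoc (V : S.Etale) : Module Γ(V.left, ⊤) (G.obj.obj (op V)) :=
  AddEquiv.module Γ(V.left, ⊤) (e V)

lemma e_smul (V : S.Etale) (a : Γ(V.left, ⊤)) (s : G.obj.obj (op V)) :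
    letI := modOfAssoc G e V
    e V (a • s) = a • e V s := by
  letI := modOfAssoc G e V
  exact (e V).apply_symm_apply _

include he in
/-- The module structure on the sections of an associated étale sheaf. -/
@[reducible] def modStrOfAssoc : ModStr G where
  mod V := modOfAssoc G e V
  map_smul' := by
    intro V W g a s
    letI := modOfAssoc G e V
    letI := modOfAssoc G e W
    apply (e V).injective
    rw [e_smul G e V]
    apply ULift.ext
    rw [he W V g, e_smul G e W]
    change EtAssoc.resMap F g (a • (e W s).down) = g.left.appTop.hom a • (e V (G.obj.map g.op s)).down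
    rw [resMap_smul, he W V g]

include he in
/-- **The étale sheaf associated to a quasi-coherent module is quasi-coherent.** -/
theorem isQc_of_assoc [F.IsQuasicoherent] :
    letI := modStrOfAssoc G e he
    IsQc G := by
  letI := modStrOfAssoc G e he
  intro U V hU hV
  have hφ : V.hom.left.appTop = V.hom.left.appLE ⊤ ⊤ le_top :=
    Scheme.Hom.app_eq_appLE _
  have hb := βgen_bijective F V hU hV V.hom.left.appTop (fun r => rfl) hφ
  -- the linear equivalence `G(U) ≃ Γ(U, u^*F)`
  let eL : MM G U ≃ₗ[RR U] ΓF F U :=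
    { toFun := fun m => (e U m).down
      invFun := fun x => (e U).symm ⟨x⟩
      map_add' := fun m m' => by rw [map_add]; rfl
      map_smul' := fun r m => by
        have := e_smul G e U r m
        rw [this]
        rfl
      left_inv := fun m => (e U).symm_apply_apply m
      right_inv := fun x => by
        change (e U ((e U).symm ⟨x⟩)).down = x
        rw [AddEquiv.apply_symm_apply] }
  have hψ : Function.Bijective (eL.toLinearMap.lTensor (AA V)) :=
    (LinearEquiv.lTensor (AA V) eL).bijective
  have key : ∀ t, β G V t =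
      (e V.left).symm (ULift.up (βgen F V V.hom.left.appTop (fun r => rfl)
        (eL.toLinearMap.lTensor (AA V) t))) := by
    intro t
    induction t using TensorProduct.induction_on with
    | zero => rw [map_zero, map_zero, map_zero]; exact (map_zero (e V.left).symm).symm
    | add x y hx hy =>
      rw [map_add, map_add, map_add, hx, hy]
      exact (map_add (e V.left).symm _ _).symm
    | tmul a m =>
      rw [β_tmul, LinearMap.lTensor_tmul, βgen_tmul]
      change (e V.left).symm (a • e V.left (G.obj.map V.hom.op m)) = _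
      congr 1
      apply ULift.ext
      change a • (e V.left (G.obj.map V.hom.op m)).down = a • rm F V (e U m).down
      rw [he U V.left V.hom m]
      rfl
  have : (β G V : _ → _) = (e V.left).symm ∘ ULift.up ∘
      (βgen F V V.hom.left.appTop (fun r => rfl)) ∘ (eL.toLinearMap.lTensor (AA V)) :=
    funext key
  rw [this]
  refine (e V.left).symm.bijective.comp (Function.Bijective.comp ?_ (hb.comp hψ))
  exact ⟨fun _ _ h => ULift.up_injective h, fun y => ⟨y.down, rfl⟩⟩

end FromAssoc

end

end Groth.Agent.Lib.Helper22.QcEt
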