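import Groth.Agent.Lib.Helper22.QcEt.Good
import Groth.Agent.Lib.Helper22.DimShift

/-!
# Vanishing of `R^q π_*` on sheaves without higher cohomology on affines (helper22)
-/

set_option autoImplicit false
set_option linter.unusedSectionVars false
set_option linter.style.haveILetI false
universe u
open CategoryTheory CategoryTheory.Limits Opposite AlgebraicGeometry

namespace Groth.Agent.Lib.Helper22.QcEt
open Groth.Agent.Lib.Helper22.EtLoc
open Groth.Agent.Lib.Helper22.ExtCompare
open Groth.Agent.Lib.Lead.EtZarCompare Groth.Agent.Lib.Lead.EtZarFlat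

noncomputable section

variable (X : Scheme.{u}) [EtZar.ZarCont X] [(EtZar.resZar X).Additive]

/-- The higher direct images to the Zariski site vanish on good sheaves. -/
theorem isZero_rightDerived_resZar_of_good (q : ℕ) :
    ∀ G : EtCoh.Ab X, Good X G → IsZero (((EtZar.resZar X).rightDerived (q + 1)).obj G) := by
  haveI : PreservesLimitsOfSize.{0, 0} (EtZar.resZar X) :=
    (zarAdj X).rightAdjoint_preservesLimits
  haveI : PreservesFiniteLimits (EtZar.resZar X) := inferInstance
  induction q with
  | zero =>
    intro G hG
    have hS := shortExact_map_resZar (injSC G) (injSC_shortExact G) hG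
    have hepi : Epi ((EtZar.resZar X).map (injSC G).g) := hS.epi_g
    exact (DimShift.isZero_rightDerived_one_iff (EtZar.resZar X) (injSC G) (injSC_shortExact G)).2 hepi
  | succ q ih =>
    intro G hG
    exact (DimShift.isZero_rightDerived_succ_succ_iff (EtZar.resZar X) (injSC G) (injSC_shortExact G)
      q).2 (ih _ (good_quot G hG))

/-- **`R^q π_* G = 0` for the étale sheaf associated to a quasi-coherent module.** -/
theorem isZero_rightDerived_resZar_of_isAssoc (F : X.Modules) [F.IsQuasicoherent]
    (G : EtCoh.Ab X) (hG : EtAssoc.IsAssoc F G) (q : ℕ) (hq : 0 < q) :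
    IsZero (((EtZar.resZar X).rightDerived q).obj G) := by
  obtain ⟨e, he⟩ := hG
  letI := modStrOfAssoc G e he
  have hqc := isQc_of_assoc G e he
  obtain ⟨n, rfl⟩ : ∃ n, q = n + 1 := ⟨q - 1, by omega⟩
  exact isZero_rightDerived_resZar_of_good X n G (good_of_isQc G hqc)

end

end Groth.Agent.Lib.Helper22.QcEt
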