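import Groth.Agent.Lib.Helper22.QcEt.Assoc
import Groth.Agent.Lib.Helper22.GaZar.GaIso

/-!
# Quasi-coherent étale sheaves have no higher cohomology on affine étale schemes (helper22)
-/

set_option autoImplicit false
set_option linter.unusedSectionVars false
set_option linter.style.haveILetI false
universe u
open CategoryTheory CategoryTheory.Limits Opposite AlgebraicGeometry TensorProduct

namespace Groth.Agent.Lib.Helper22.QcEt
open Groth.Agent.Lib.Helper22.CechU Groth.Agent.Lib.Helper22.CechU.Site
open Groth.Agent.Lib.Helper22.CechU.Etale Groth.Agent.Lib.Helper22.EtLoc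
open Groth.Agent.Lib.Helper22.GaAcyc Groth.Agent.Lib.Helper22.GaZar
open Groth.Agent.Lib.Helper22.ColimCohU Groth.Agent.Lib.Helper22.ColimCohU.Etale
open Groth.Agent.Lib.Lead.EtZarCompare

noncomputable section

variable {X Y : Scheme.{u}} (j : Y ⟶ X) [Etale j] (G : EtCoh.Ab X)

/-- The module structure on the restriction to an étale `X`-scheme. -/
@[reducible] def modStrRes [h : ModStr G] : ModStr ((res j).obj G) where
  mod V := h.mod ((pj j).obj V)
  map_smul' g a s := h.map_smul' ((pj j).map g) a s

lemma isQc_res [h : ModStr G] (hq : IsQc G) :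
    letI := modStrRes j G
    IsQc ((res j).obj G) := by
  letI := modStrRes j G
  intro U V hU hV
  exact hq ((pj j).obj U) (Over.mk ((pj j).map V.hom)) hU hV

/-- A quasi-coherent étale sheaf has no higher cohomology on affine schemes. -/
theorem H_eq_zero_of_isQc (S : Scheme.{u}) [IsAffine S] (G : EtCoh.Ab S) [ModStr G]
    (hq : IsQc G) (n : ℕ) (x : EtCoh.H S G (n + 1)) : x = 0 :=
  ext_eq_zero_of_covAcyclic (J := S.smallEtaleTopology) (B := Ba S) (Cov := Cova S)
    (fun Q => isSheaf_forget Q) h1a h2a hfina (ZX S) (EtCoh.top S) (top_mem_Ba S)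
    (fun G => Sheaf.H.equiv₀ G (EtCore.topIsTerminal S))
    (fun {G G'} φ x => (Sheaf.H.equiv₀_naturality (hT := EtCore.topIsTerminal S) φ x).symm)
    G (covAcyclic_of_isQc G hq) n x

/-- **Quasi-coherent étale sheaves are good**: no higher cohomology on affine étale schemes. -/
theorem good_of_isQc (G : EtCoh.Ab X) [ModStr G] (hq : IsQc G) : Good X G := by
  intro T hT i hi
  haveI : Etale T.hom := T.prop
  haveI : IsAffine T.left := hT
  refine subsingleton_H_of_iso ((pullIsoRes T.hom).app G) i ?_
  obtain ⟨n, rfl⟩ : ∃ n, i = n + 1 := ⟨i - 1, by omega⟩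
  letI := modStrRes T.hom G
  have h := H_eq_zero_of_isQc T.left ((res T.hom).obj G) (isQc_res T.hom G hq) n
  exact ⟨fun x y => (h x).trans (h y).symm⟩

end

end Groth.Agent.Lib.Helper22.QcEt
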