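import Groth.Agent.Lib.Helper22.GaAcyc.Main

/-!
# The Čech complex of `G_a` with coefficients in a module (helper22)

Linear-algebra identities for the Čech complex of functions on a finite affine étale covering,
and exactness of its tensor product with an arbitrary module.
-/

set_option autoImplicit false
set_option linter.unusedSectionVars false
universe u
open CategoryTheory CategoryTheory.Limits Opposite AlgebraicGeometry TensorProduct

namespace Groth.Agent.Lib.Helper22.QcEt
open Groth.Agent.Lib.Helper22.CechU Groth.Agent.Lib.Helper22.CechU.Site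
open Groth.Agent.Lib.Helper22.CechU.Etale Groth.Agent.Lib.Helper22.EtLoc
open Groth.Agent.Lib.Helper22.GaAcyc

noncomputable section

variable {S : Scheme.{u}} {U : S.Etale} {ι : Type (u + 1)} {Y : ι → Over U}

/-- The décalage differential as a linear map. -/
def dDecL (n : ℕ) : NN Y (n + 1) →ₗ[RR U] NN Y (n + 2) where
  toFun := dDec n
  map_add' := map_add _
  map_smul' r c := by
    apply ext_evN
    intro σ
    change evN (dDecFun (r • c)) (can Y σ) = evN (r • dDecFun c) (can Y σ)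
    rw [evN_smul, evN_dDecFun, evN_dDecFun, Finset.smul_sum]
    refine Finset.sum_congr rfl fun k _ => ?_
    rw [evN_smul, smul_comm]

lemma dDecL_apply (n : ℕ) (c : NN Y (n + 1)) : dDecL n c = dDec n c := rfl

/-- `x ↦ Θ (1 ⊗ x)`. -/
def Θ1 (n : ℕ) : NN Y n →ₗ[RR U] NN Y (n + 1) :=
  (Θ n) ∘ₗ (TensorProduct.mk (RR U) (BB Y) (NN Y n) 1)

lemma Θ1_apply (n : ℕ) (c : NN Y n) : Θ1 n c = ΘFun 1 c := rfl

/-- The differential is the first coface minus the décalage differential. -/
lemma δL_succ_eq (n : ℕ) : δL (Y := Y) (n + 1) = Θ1 (n + 1) - dDecL n := by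
  apply LinearMap.ext
  intro x
  apply ext_evN
  intro τ
  change evN (δ x) (can Y τ) = evN (ΘFun 1 x - dDecFun x) (can Y τ)
  have hsub : ∀ (c c' : NN Y (n + 2)) {V : Over U} (t : T Y (n + 2) V),
      evN (c - c') t = evN c t - evN c' t := by
    intro c c' V t
    unfold evN
    rw [Pi.sub_apply, map_sub]
  rw [hsub, evN_δ, evN_ΘFun, evB_one, one_mul, evN_dDecFun, Fin.sum_univ_succ]
  have h2 : ∀ j : Fin (n + 2), (-1 : ℤ) ^ ((j.succ : Fin (n + 3)) : ℕ) •
      evN x (can Y τ ∘ j.succ.succAbove) =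
        -((-1 : ℤ) ^ (j : ℕ) • evN x (can Y τ ∘ j.succ.succAbove)) := by
    intro j
    rw [Fin.val_succ, pow_succ, mul_neg_one, neg_smul]
  rw [Finset.sum_congr rfl (fun j _ => h2 j), Finset.sum_neg_distrib, Fin.val_zero, pow_zero,
    one_smul, ← sub_eq_add_neg]
  have h3 : (can Y τ ∘ (0 : Fin (n + 3)).succAbove) = can Y τ ∘ Fin.succ := by
    rw [Fin.succAbove_zero]
  rw [h3]

lemma hcommL (n : ℕ) :
    (dDecL (Y := Y) n) ∘ₗ (Θ n) = (Θ (n + 1)) ∘ₗ ((δL n).lTensor (BB Y)) := by
  apply LinearMap.ext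
  intro z
  exact hcomm n z

section Coeff

variable {M : Type*} [AddCommGroup M] [Module (RR U) M]

/-- The multiplication map with coefficients. -/
def ΘM (n : ℕ) : BB Y ⊗[RR U] (NN Y n ⊗[RR U] M) →ₗ[RR U] NN Y (n + 1) ⊗[RR U] M :=
  ((Θ n).rTensor M) ∘ₗ (TensorProduct.assoc (RR U) (BB Y) (NN Y n) M).symm.toLinearMap

lemma ΘM_tmul (n : ℕ) (b : BB Y) (c : NN Y n) (m : M) :
    ΘM n (b ⊗ₜ (c ⊗ₜ m)) = Θ n (b ⊗ₜ c) ⊗ₜ m := rfl

lemma ΘM_bijective (n : ℕ) (h : Function.Bijective (Θ (Y := Y) n)) :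
    Function.Bijective (ΘM (Y := Y) (M := M) n) := by
  let e := LinearEquiv.ofBijective (Θ (Y := Y) n) h
  have h1 : Function.Bijective ((Θ (Y := Y) n).rTensor M) := (LinearEquiv.rTensor M e).bijective
  exact h1.comp (TensorProduct.assoc (RR U) (BB Y) (NN Y n) M).symm.bijective

lemma hcommM (n : ℕ) (z : BB Y ⊗[RR U] (NN Y n ⊗[RR U] M)) :
    (dDecL n).rTensor M (ΘM n z) = ΘM (n + 1) (((δL n).rTensor M).lTensor (BB Y) z) := by
  induction z using TensorProduct.induction_on with
  | zero => rw [map_zero, map_zero, map_zero, map_zero]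
  | add x y hx hy => rw [map_add, map_add, map_add, map_add, hx, hy]
  | tmul b w =>
    induction w using TensorProduct.induction_on with
    | zero => rw [TensorProduct.tmul_zero, map_zero, map_zero, map_zero, map_zero]
    | add x y hx hy =>
      rw [TensorProduct.tmul_add, map_add, map_add, map_add, map_add, hx, hy]
    | tmul c m =>
      rw [ΘM_tmul, LinearMap.rTensor_tmul, LinearMap.lTensor_tmul, LinearMap.rTensor_tmul,
        ΘM_tmul]
      have := hcomm n (b ⊗ₜ[RR U] c)
      rw [LinearMap.lTensor_tmul] at this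
      rw [dDecL_apply, this]

lemma ΘM_one_tmul (n : ℕ) (x : NN Y n ⊗[RR U] M) :
    ΘM n ((1 : BB Y) ⊗ₜ x) = (Θ1 n).rTensor M x := by
  induction x using TensorProduct.induction_on with
  | zero => rw [TensorProduct.tmul_zero, map_zero, map_zero]
  | add x y hx hy => rw [TensorProduct.tmul_add, map_add, map_add, hx, hy]
  | tmul c m => rfl

/-- **Exactness of the Čech complex of functions with coefficients in a module.** -/
theorem exists_of_cocycle_tensor [Module.FaithfullyFlat (RR U) (BB Y)]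
    (hΘ : ∀ m, Function.Bijective (Θ (Y := Y) m)) (n : ℕ) (x : NN Y (n + 1) ⊗[RR U] M)
    (hx : (δL (n + 1)).rTensor M x = 0) : ∃ y : NN Y n ⊗[RR U] M, (δL n).rTensor M y = x := by
  refine descent_core' (R := RR U) (B := BB Y) ((δL n).rTensor M)
    ((dDecL n).rTensor M).toAddMonoidHom (ΘM n).toAddMonoidHom (ΘM (n + 1)).toAddMonoidHom
    (ΘM_bijective n (hΘ n)).2 (ΘM_bijective (n + 1) (hΘ (n + 1))).1 (hcommM n) x ⟨x, ?_⟩
  change (dDecL n).rTensor M x = ΘM (n + 1) ((1 : BB Y) ⊗ₜ x)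
  rw [ΘM_one_tmul]
  rw [δL_succ_eq, LinearMap.rTensor_sub, LinearMap.sub_apply, sub_eq_zero] at hx
  exact hx.symm

end Coeff

end

end Groth.Agent.Lib.Helper22.QcEt
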