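import Groth.Agent.Lib.Helper22.QcEt.Lin

/-!
# Étale sheaves with a quasi-coherent module structure are Čech-acyclic on affines (helper22)
-/

set_option autoImplicit false
set_option linter.unusedSectionVars false
universe u
open CategoryTheory CategoryTheory.Limits Opposite AlgebraicGeometry TensorProduct

namespace Groth.Agent.Lib.Helper22.QcEt
open Groth.Agent.Lib.Helper22.CechU Groth.Agent.Lib.Helper22.CechU.Site
open Groth.Agent.Lib.Helper22.CechU.Etale Groth.Agent.Lib.Helper22.EtLoc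
open Groth.Agent.Lib.Helper22.GaAcyc
open Groth.Agent.Lib.Helper22.ColimCohU Groth.Agent.Lib.Helper22.ColimCohU.Etale

noncomputable section

variable {S : Scheme.{u}}

/-- A module structure on the sections of an abelian étale sheaf, with semilinear restriction
maps. -/
class ModStr (G : EtCoh.Ab S) where
  mod : ∀ V : S.Etale, Module Γ(V.left, ⊤) (G.obj.obj (op V))
  map_smul' : ∀ {V W : S.Etale} (g : V ⟶ W) (a : Γ(W.left, ⊤)) (s : G.obj.obj (op W)),
    letI := mod V
    letI := mod W
    G.obj.map g.op (a • s) = (g.left.appTop.hom a) • (G.obj.map g.op s)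

instance instModuleSections (G : EtCoh.Ab S) [h : ModStr G] (V : S.Etale) :
    Module Γ(V.left, ⊤) (G.obj.obj (op V)) := h.mod V

lemma map_smul_sec (G : EtCoh.Ab S) [ModStr G] {V W : S.Etale} (g : V ⟶ W) (a : Γ(W.left, ⊤))
    (s : G.obj.obj (op W)) :
    G.obj.map g.op (a • s) = (g.left.appTop.hom a) • (G.obj.map g.op s) :=
  ModStr.map_smul' g a s

variable (G : EtCoh.Ab S) [ModStr G] {U : S.Etale}

/-- Sections over `U`, as a module over the functions on `U`. -/
abbrev MM (G : EtCoh.Ab S) (U : S.Etale) : Type (u + 1) := G.obj.obj (op U)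

/-- Restriction from `U`. -/
def ρ (V : Over U) : MM G U →+ G.obj.obj (op V.left) := (G.obj.map V.hom.op).hom

lemma ρ_apply (V : Over U) (m : MM G U) : ρ G V m = G.obj.map V.hom.op m := rfl

lemma ρ_smul (V : Over U) (r : RR U) (m : MM G U) :
    ρ G V (r • m) = algebraMap (RR U) (AA V) r • ρ G V m :=
  map_smul_sec G V.hom r m

lemma map_ρ {V W : Over U} (f : V ⟶ W) (m : MM G U) :
    G.obj.map f.left.op (ρ G W m) = ρ G V m := by
  rw [ρ_apply, ρ_apply, ← ConcreteCategory.comp_apply, ← G.obj.map_comp, ← op_comp, Over.w]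

/-- The base change map `Γ(V) ⊗ G(U) → G(V)`. -/
def β (V : Over U) : AA V ⊗[RR U] MM G U →+ G.obj.obj (op V.left) :=
  TensorProduct.liftAddHom
    { toFun := fun a =>
        { toFun := fun m => a • ρ G V m
          map_zero' := by rw [map_zero, smul_zero]
          map_add' := fun m m' => by rw [map_add, smul_add] }
      map_zero' := by
        ext m
        exact zero_smul _ _
      map_add' := fun a a' => by
        ext m
        exact add_smul _ _ _ }
    (fun r a m => by
      change (r • a) • ρ G V m = a • ρ G V (r • m)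
      rw [ρ_smul, Algebra.smul_def, mul_comm, mul_smul])

lemma β_tmul (V : Over U) (a : AA V) (m : MM G U) : β G V (a ⊗ₜ m) = a • ρ G V m := rfl

/-- The module structure is quasi-coherent: sections over an affine `V → U` are the base change
of the sections over the affine `U`. -/
def IsQc : Prop :=
  ∀ (U : S.Etale) (V : Over U), IsAffine U.left → IsAffine V.left.left →
    Function.Bijective (β G V)

variable {ι : Type (u + 1)} (Y : ι → Over U)

/-- The restriction of the presheaf to `Over U`. -/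
abbrev PQ (G : EtCoh.Ab S) (U : S.Etale) : (Over U)ᵒᵖ ⥤ AddCommGrpCat.{u + 1} :=
  rP (U := U) G.obj

/-- Evaluate a tensor through a linear functional with values in functions on `V`. -/
def evT {n : ℕ} {V : Over U} (φ : NN Y n →ₗ[RR U] AA V) (z : NN Y n ⊗[RR U] MM G U) :
    G.obj.obj (op V.left) :=
  β G V (φ.rTensor (MM G U) z)

lemma evT_tmul {n : ℕ} {V : Over U} (φ : NN Y n →ₗ[RR U] AA V) (c : NN Y n) (m : MM G U) :
    evT G Y φ (c ⊗ₜ m) = φ c • ρ G V m := rfl

lemma evT_add {n : ℕ} {V : Over U} (φ : NN Y n →ₗ[RR U] AA V) (z z' : NN Y n ⊗[RR U] MM G U) :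
    evT G Y φ (z + z') = evT G Y φ z + evT G Y φ z' := by
  unfold evT
  rw [map_add, map_add]

lemma evT_zero {n : ℕ} {V : Over U} (φ : NN Y n →ₗ[RR U] AA V) :
    evT G Y φ (0 : NN Y n ⊗[RR U] MM G U) = 0 := by
  unfold evT
  rw [map_zero, map_zero]

/-- Evaluation of cochains of functions as a linear map. -/
def evNL {n : ℕ} {V : Over U} (t : T Y n V) : NN Y n →ₗ[RR U] AA V where
  toFun c := evN c t
  map_add' c c' := evN_add c c' t
  map_smul' r c := evN_smul r c t

lemma evNL_apply {n : ℕ} {V : Over U} (t : T Y n V) (c : NN Y n) : evNL Y t c = evN c t := rfl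

/-- The components of the comparison map. -/
def Φc (n : ℕ) (z : NN Y n ⊗[RR U] MM G U) (σ : Fin (n + 1) → ι) :
    G.obj.obj (op (Uσ Y σ).left) :=
  evT G Y (LinearMap.proj σ) z

/-- The comparison map from the Čech complex of functions with coefficients in `G(U)` to the
Čech complex of `G`. -/
def Φ (n : ℕ) (z : NN Y n ⊗[RR U] MM G U) : (CK Y (PQ G U)).X n :=
  mk Y (PQ G U) (fun σ => Φc G Y n z σ)

lemma proj_Φ (n : ℕ) (z : NN Y n ⊗[RR U] MM G U) (σ : Fin (n + 1) → ι) :
    proj Y (PQ G U) n σ (Φ G Y n z) = Φc G Y n z σ := by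
  unfold Φ
  rw [proj_mk]

lemma map_evT_proj (n : ℕ) (z : NN Y n ⊗[RR U] MM G U) {V : Over U} (t : T Y n V) :
    G.obj.map (toProd Y t).left.op (evT G Y (LinearMap.proj (idx Y t)) z) =
      evT G Y (evNL Y t) z := by
  induction z using TensorProduct.induction_on with
  | zero => rw [evT_zero, evT_zero, map_zero]
  | add x y hx hy => rw [evT_add, evT_add, map_add, hx, hy]
  | tmul c m =>
    rw [evT_tmul, evT_tmul, map_smul_sec, map_ρ]
    rfl

lemma ev_Φ (n : ℕ) (z : NN Y n ⊗[RR U] MM G U) {V : Over U} (t : T Y n V) :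
    ev Y (PQ G U) (Φ G Y n z) t = evT G Y (evNL Y t) z := by
  unfold ev
  rw [proj_Φ]
  exact map_evT_proj G Y n z t

lemma evT_δ (n : ℕ) (z : NN Y n ⊗[RR U] MM G U) {V : Over U} (t : T Y (n + 1) V) :
    evT G Y (evNL Y t) ((δL n).rTensor (MM G U) z) =
      ∑ k : Fin (n + 2), (-1 : ℤ) ^ (k : ℕ) • evT G Y (evNL Y (t ∘ k.succAbove)) z := by
  induction z using TensorProduct.induction_on with
  | zero =>
    rw [map_zero, evT_zero]
    symm
    refine Finset.sum_eq_zero fun k _ => ?_
    rw [evT_zero, smul_zero]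
  | add x y hx hy =>
    rw [map_add, evT_add, hx, hy, ← Finset.sum_add_distrib]
    refine Finset.sum_congr rfl fun k _ => ?_
    rw [evT_add, smul_add]
  | tmul c m =>
    rw [LinearMap.rTensor_tmul, evT_tmul, evNL_apply]
    change evN (δ c) t • _ = _
    rw [evN_δ, Finset.sum_smul]
    refine Finset.sum_congr rfl fun k _ => ?_
    rw [evT_tmul, evNL_apply, smul_assoc]

lemma d_Φ (n : ℕ) (z : NN Y n ⊗[RR U] MM G U) :
    (CK Y (PQ G U)).d n (n + 1) (Φ G Y n z) = Φ G Y (n + 1) ((δL n).rTensor (MM G U) z) := by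
  apply ext_proj
  intro τ
  rw [← ev_can, ← ev_can, ev_d, ev_Φ]
  have h1 : ∀ k : Fin (n + 2), ev Y (PQ G U) (Φ G Y n z) (can Y τ ∘ k.succAbove) =
      evT G Y (evNL Y (can Y τ ∘ k.succAbove)) z := fun k => ev_Φ G Y n z _
  rw [Finset.sum_congr rfl (fun k _ => by rw [h1 k])]
  exact (evT_δ G Y n z (can Y τ)).symm

section Bij

variable [Finite ι]

lemma Φc_bijective (hq : IsQc G) (hU : U ∈ Ba S) (hY : ∀ i, (Y i).left ∈ Ba S) (n : ℕ) :
    Function.Bijective (Φc G Y n) := by
  classical
  have := Fintype.ofFinite ι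
  let e := TensorProduct.piLeft (RR U) (MM G U) (fun σ : Fin (n + 1) → ι => AA (Uσ Y σ))
  have h1 : ∀ (z : NN Y n ⊗[RR U] MM G U) (σ : Fin (n + 1) → ι),
      e z σ = (LinearMap.proj σ).rTensor (MM G U) z := by
    intro z σ
    induction z using TensorProduct.induction_on with
    | zero => rw [map_zero, map_zero]; rfl
    | add x y hx hy => rw [map_add, map_add, Pi.add_apply, hx, hy]
    | tmul c m => simp [e]
  have h2 : Φc G Y n = (Pi.map fun σ => β G (Uσ Y σ)) ∘ e := by
    funext z σ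
    change β G (Uσ Y σ) _ = β G (Uσ Y σ) (e z σ)
    rw [h1]
  rw [h2]
  refine Function.Bijective.comp (Function.Bijective.piMap fun σ => ?_) e.bijective
  exact hq U (Uσ Y σ) hU (Ba_prod hU Y hY σ)

lemma Φ_injective (hq : IsQc G) (hU : U ∈ Ba S) (hY : ∀ i, (Y i).left ∈ Ba S) (n : ℕ) :
    Function.Injective (Φ G Y n) := by
  intro z z' h
  apply (Φc_bijective G Y hq hU hY n).1
  funext σ
  rw [← proj_Φ, ← proj_Φ, h]

lemma Φ_surjective (hq : IsQc G) (hU : U ∈ Ba S) (hY : ∀ i, (Y i).left ∈ Ba S) (n : ℕ) :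
    Function.Surjective (Φ G Y n) := by
  intro x
  obtain ⟨z, hz⟩ := (Φc_bijective G Y hq hU hY n).2 (fun σ => proj Y (PQ G U) n σ x)
  refine ⟨z, ?_⟩
  apply ext_proj
  intro σ
  rw [proj_Φ, hz]

lemma Φ_zero (n : ℕ) : Φ G Y n 0 = 0 := by
  apply ext_proj
  intro σ
  rw [proj_Φ, map_zero]
  exact evT_zero G Y _

/-- **Čech-acyclicity of a quasi-coherent étale sheaf on finite affine coverings.** -/
theorem acyc_of_isQc (hq : IsQc G) (h : Cova S U ι Y) (p : ℕ) : Acyc Y (PQ G U) p := by
  obtain ⟨hfin, hU, hY, hsurj⟩ := h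
  have hff := faithfullyFlat_BB (⟨hfin, hU, hY, hsurj⟩ : Cova S U ι Y)
  intro x hx
  obtain ⟨z, rfl⟩ := Φ_surjective G Y hq hU hY (p + 1) x
  rw [d_Φ] at hx
  have hz : (δL (p + 1)).rTensor (MM G U) z = 0 := by
    apply Φ_injective G Y hq hU hY (p + 2)
    rw [hx, Φ_zero]
  obtain ⟨y, hy⟩ := exists_of_cocycle_tensor (fun m => Θ_bijective hU hY m) p z hz
  exact ⟨Φ G Y p y, by rw [d_Φ, hy]⟩

end Bij

/-- A quasi-coherent étale sheaf is Čech-acyclic for finite affine coverings of affines. -/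
theorem covAcyclic_of_isQc (hq : IsQc G) : CovAcyclic (Cova S) G := by
  intro U ι Y hcov p
  have hfin : Finite ι := hcov.1
  exact acyc_of_isQc G Y hq hcov p

end

end Groth.Agent.Lib.Helper22.QcEt
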