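import Groth.Agent.Lib.Helper22.QcEt.Good

/-!
# The restriction to the Zariski site of the étale sheaf associated to a module (helper22)
-/

set_option autoImplicit false
set_option linter.unusedSectionVars false
set_option linter.style.haveILetI false
universe u
open CategoryTheory CategoryTheory.Limits Opposite AlgebraicGeometry TopologicalSpace

namespace Groth.Agent.Lib.Helper22.QcEt
open Groth.Agent.Lib.Helper22.EtLoc
open Groth.Agent.Lib.Helper22.GaZar
open Groth.Agent.Lib.Lead.EtZarCompare Groth.Agent.Lib.Lead.EtZarFlat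
open Groth.Agent.Lib.Helper29.QCoh

noncomputable section

variable {S : Scheme.{u}} (F : S.Modules)

/-- Sections of `F` over `U`, pulled back to an étale `S`-scheme lying over `U`. -/
def aMap (W : S.Etale) (U : S.Opens) (hWU : (⊤ : W.left.Opens) ≤ W.hom ⁻¹ᵁ U) :
    Γ(F, U) →+ ΓF F W :=
  (res ((Scheme.Modules.pullback W.hom).obj F) hWU).comp (pullSect W.hom F U)

lemma aMap_apply (W : S.Etale) (U : S.Opens) (hWU : (⊤ : W.left.Opens) ≤ W.hom ⁻¹ᵁ U)
    (m : Γ(F, U)) :
    aMap F W U hWU m =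
      res ((Scheme.Modules.pullback W.hom).obj F) hWU (pullSect W.hom F U m) := rfl

lemma aMap_res (W : S.Etale) {U U' : S.Opens} (h : U' ≤ U)
    (hWU' : (⊤ : W.left.Opens) ≤ W.hom ⁻¹ᵁ U') (hWU : (⊤ : W.left.Opens) ≤ W.hom ⁻¹ᵁ U)
    (m : Γ(F, U)) : aMap F W U' hWU' (res F h m) = aMap F W U hWU m := by
  rw [aMap_apply, aMap_apply, pullSect_res, res_res]

/-- Transport of pulled back sections along an equality of morphisms. -/
lemma res_eqToHom_pullSect {Y : Scheme.{u}} {h₁ h₂ : Y ⟶ S} (e : h₁ = h₂) (U : S.Opens)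
    (m : Γ(F, U)) (h₃ : (⊤ : Y.Opens) ≤ h₁ ⁻¹ᵁ U) (h₄ : (⊤ : Y.Opens) ≤ h₂ ⁻¹ᵁ U) :
    res ((Scheme.Modules.pullback h₂).obj F) h₃
      ((eqToHom (congrArg (fun h => (Scheme.Modules.pullback h).obj F) e)).app (h₁ ⁻¹ᵁ U)
        (pullSect h₁ F U m)) =
      res ((Scheme.Modules.pullback h₂).obj F) h₄ (pullSect h₂ F U m) := by
  subst e
  rfl

lemma resMap_aMap {W' W : S.Etale} (g : W' ⟶ W) (U : S.Opens)
    (hWU : (⊤ : W.left.Opens) ≤ W.hom ⁻¹ᵁ U) (hW'U : (⊤ : W'.left.Opens) ≤ W'.hom ⁻¹ᵁ U)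
    (m : Γ(F, U)) :
    EtAssoc.resMap F g (aMap F W U hWU m) = aMap F W' U hW'U m := by
  have h₃ : (⊤ : W'.left.Opens) ≤ g.left ⁻¹ᵁ (W.hom ⁻¹ᵁ U) := fun x _ => hWU trivial
  let M := (Scheme.Modules.pullback W.hom).obj F
  let N := (Scheme.Modules.pullback g.left).obj M
  let Q := (Scheme.Modules.pullback W'.hom).obj F
  let y := pullSect W.hom F U m
  let w := pullSect (g.left ≫ W.hom) F U m
  let pinv := ((Scheme.Modules.pullbackComp g.left W.hom).inv.app F).app ((g.left ≫ W.hom) ⁻¹ᵁ U)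
  -- the first step
  have e1 : EtAssoc.step1 F g (aMap F W U hWU m) = res N h₃ (pinv w) :=
    ((congrArg (res N (le_top : (⊤ : W'.left.Opens) ≤ g.left ⁻¹ᵁ ⊤))
      (pullSect_res g.left M hWU y)).trans (res_res N _ _ _)).trans
      (congrArg (res N h₃) (pullbackComp_inv_pullSect g.left W.hom F U m).symm)
  -- the second step
  have e2 : (EtAssoc.step2a F g).app ((g.left ≫ W.hom) ⁻¹ᵁ U) (pinv w) =
      (eqToHom (congrArg (fun h => (Scheme.Modules.pullback h).obj F) (Over.w g.hom))).app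
        ((g.left ≫ W.hom) ⁻¹ᵁ U) w := by
    unfold EtAssoc.step2a
    rw [app_comp]
    congr 1
    exact iso_hom_inv_app ((Scheme.Modules.pullbackComp g.left W.hom).app F) _ w
  have e3 : EtAssoc.step2 F g (res N h₃ (pinv w)) =
      res Q h₃ ((EtAssoc.step2a F g).app ((g.left ≫ W.hom) ⁻¹ᵁ U) (pinv w)) :=
    app_res (EtAssoc.step2a F g) h₃ (pinv w)
  exact (congrArg (EtAssoc.step2 F g) e1).trans (e3.trans ((congrArg (res Q h₃) e2).trans
    (res_eqToHom_pullSect F (Over.w g.hom) U m h₃ hW'U)))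

section Iso

variable {F} (G : EtCoh.Ab S)
  (e : ∀ U : S.Etale, (G.obj.obj (op U) : Type (u + 1)) ≃+ ULift.{u + 1} (EtAssoc.obj F U))
  (he : ∀ (U U' : S.Etale) (g : U' ⟶ U) (s : G.obj.obj (op U)),
      (e U' (G.obj.map g.op s)).down = EtAssoc.resMap F g (e U s).down)

lemma top_le_ι_preimage (U : S.Opens) :
    (⊤ : ((EtZar.zarToEt S).obj U).left.Opens) ≤ ((EtZar.zarToEt S).obj U).hom ⁻¹ᵁ U :=
  (Scheme.Opens.ι_preimage_self U).ge

lemma top_le_ι_preimage_of_le {U V : S.Opens} (h : V ≤ U) :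
    (⊤ : ((EtZar.zarToEt S).obj V).left.Opens) ≤ ((EtZar.zarToEt S).obj V).hom ⁻¹ᵁ U :=
  fun x _ => h x.2

variable (F) in
lemma aMap_bijective (U : S.Opens) :
    Function.Bijective (aMap F ((EtZar.zarToEt S).obj U) U (top_le_ι_preimage U)) := by
  have h1 : Function.Bijective (pullSect U.ι F U) :=
    pullSect_bijective_of_isOpenImmersion U.ι F U (Scheme.Opens.opensRange_ι U).ge
  have h2 : Function.Bijective (res ((Scheme.Modules.pullback U.ι).obj F)
      ((Scheme.Opens.ι_preimage_self U).ge : (⊤ : U.toScheme.Opens) ≤ U.ι ⁻¹ᵁ U)) :=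
    res_bijective_of_le_of_le _ _ le_top
  exact h2.comp h1

/-- The comparison on sections over an open. -/
def secEquiv (U : S.Opens) :
    ULift.{u + 1} Γ(F, U) ≃+ G.obj.obj (op ((EtZar.zarToEt S).obj U)) :=
  ((AddEquiv.ulift.trans (AddEquiv.ofBijective
    (aMap F ((EtZar.zarToEt S).obj U) U (top_le_ι_preimage U)) (aMap_bijective F U))).trans
      AddEquiv.ulift.symm).trans (e ((EtZar.zarToEt S).obj U)).symm

lemma e_secEquiv (U : S.Opens) (a : ULift.{u + 1} Γ(F, U)) :
    (e ((EtZar.zarToEt S).obj U) (secEquiv G e U a)).down =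
      aMap F ((EtZar.zarToEt S).obj U) U (top_le_ι_preimage U) a.down := by
  change (e ((EtZar.zarToEt S).obj U) ((e ((EtZar.zarToEt S).obj U)).symm
    ⟨aMap F ((EtZar.zarToEt S).obj U) U (top_le_ι_preimage U) a.down⟩)).down = _
  rw [AddEquiv.apply_symm_apply]

include he in
lemma secEquiv_naturality {U V : S.Opens} (h : V ≤ U) (a : ULift.{u + 1} Γ(F, U)) :
    G.obj.map ((EtZar.zarToEt S).map (homOfLE h)).op (secEquiv G e U a) =
      secEquiv G e V ⟨res F h a.down⟩ := by
  apply (e ((EtZar.zarToEt S).obj V)).injective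
  apply ULift.ext
  rw [he, e_secEquiv, e_secEquiv,
    resMap_aMap F ((EtZar.zarToEt S).map (homOfLE h)) U (top_le_ι_preimage U)
      (top_le_ι_preimage_of_le h) a.down]
  exact (aMap_res F _ h (top_le_ι_preimage V) (top_le_ι_preimage_of_le h) a.down).symm

include he in
/-- The restriction to the Zariski site of an étale sheaf associated to `F` is (the universe
lift of) the abelian sheaf underlying `F`. -/
def resZarIso [EtZar.ZarCont S] :
    (GaZar.Φ S.carrier).obj (Coh.toAb F) ≅ (EtZar.resZar S).obj G :=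
  (fullyFaithfulSheafToPresheaf _ _).preimageIso
    (NatIso.ofComponents (fun U => (secEquiv G e U.unop).toAddCommGrpIso) (by
      intro U V f
      ext a
      exact (secEquiv_naturality G e he (leOfHom f.unop) a).symm))

end Iso

/-- **Étale cohomology of the sheaf associated to a quasi-coherent module is its Zariski
cohomology.** -/
theorem nonempty_H_addEquiv_of_isAssoc [F.IsQuasicoherent] (G : EtCoh.Ab S)
    (hG : EtAssoc.IsAssoc F G) (q : ℕ) :
    Nonempty (EtCoh.H S G q ≃+ ULift.{u + 1} (Coh.HH S F q)) := by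
  haveI : EtZar.ZarCont S := zarCont S
  obtain ⟨e, he⟩ := hG
  letI := modStrOfAssoc G e he
  have hgood := good_of_isQc G (isQc_of_assoc G e he)
  obtain ⟨e₁⟩ := nonempty_compare G hgood q
  obtain ⟨e₂⟩ := nonempty_H_lift (X := S.carrier) (Coh.toAb F) q
  exact ⟨((e₁.symm.trans (HAddEquivOfIso (resZarIso G e he) q).symm).trans e₂.symm).trans
    AddEquiv.ulift.symm⟩

end

end Groth.Agent.Lib.Helper22.QcEt
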